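import Groth.Agent.Surf.K464.Hirz
import Groth.Agent.CurvesC.ProjMap
import Groth.Agent.CurvSt.K896.TailBridge
import Groth.Agent.Surf.K465.NumTriv
import Groth.Agent.Models.H38.SecDiv
import Groth.Agent.Surf.K464.RatConf
import Groth.Agent.S1697

/-!
# The pencil of a curve of self-intersection zero (K102)

`C₀` a rational curve on a smooth proper surface with `H¹(O) = 0`, `C₀² = 0`, such that all effective divisors of
class `C₀` are integral curves.

* `exists_eff_off`, `exists_section_compl`: divisors and sections.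
* `exists_map`: a morphism `π : X ⟶ P¹` with `π^*O(1) = O(C₀)`, surjective.
* `fibre`: the closed fibres of `π` are projective lines.
* `exists_class`: a section of `π` gives a class of degree one on `C₀`.
-/

set_option autoImplicit false
universe u
open CategoryTheory CategoryTheory.Limits AlgebraicGeometry Opposite TopologicalSpace

namespace K102.Pencil

open Groth.Agent Groth.Agent.Grpsch.PicGrp Groth.Agent.Fdesc.LocGen
open K464.Base K464.Curves K464.DegCurve K464.Cohom K464.PtCurve K464.FibCurve K464.Hirz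

/-- A section generating at `x` has a divisor of zeros missing `x`. -/
theorem exists_eff_off {X : Scheme.{u}} [IsIntegral X] {L : X.Modules} (hL : PicF.IsInvertible L)
    (s : Coh.structureModule X ⟶ L) {x : X} (hx : x ∈ CohB1.genLocus L s) :
    ∃ (D : X.IdealSheafData) (hD : BlowUp.IsEffCartierIdeal D), mk L hL = (ic D hD)⁻¹ ∧ x ∉ D.support := by
  have hs : sec s ⊤ ≠ 0 := ne_zero_of_mem_genLocus s hx
  obtain ⟨D, hD, hinv, hloc⟩ := Models.H38.SecDiv.exists_divisor hL (sec s ⊤) (by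
    intro V e a he hae
    by_cases hV : (V.1 : Set X).Nonempty
    · have hnz : a ≠ 0 := by
        rintro rfl
        rw [zero_smul] at hae
        exact hs (CurvesC.InvSec.eq_zero_of_res_eq_zero hL le_top hV _ hae)
      have : Nonempty V.1 := hV.to_subtype
      exact mem_nonZeroDivisors_of_ne_zero hnz
    · have hb : V.1 = ⊥ := by
        rw [← TopologicalSpace.Opens.coe_eq_empty]
        exact Set.not_nonempty_iff_eq_empty.1 hV
      have : Subsingleton Γ(X, V.1) := by
        rw [hb]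
        exact inferInstanceAs (Subsingleton Γ(X, ⊥))
      rw [Subsingleton.elim a 1]
      exact one_mem _)
  refine ⟨D, hD, mk_eq_ic_inv hinv hL hD, ?_⟩
  obtain ⟨U, hxU, hU⟩ := Dix.IdealModCartier.exists_affine_mem_le (CohB1.genLocus L s) x hx
  have h1 : IsGen (res L (le_top : U.1 ≤ ⊤) (sec s ⊤)) := by
    rw [← res_res L le_top hU, res_sec]
    exact (isGen_sec_genLocus s).res hU
  have h2 := hloc U _ 1 h1 (by rw [one_smul])
  rw [Scheme.IdealSheafData.mem_support_iff_of_mem hxU, h2, Scheme.zeroLocus_span, Scheme.zeroLocus_singleton,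
    Set.mem_compl_iff, not_not, Scheme.basicOpen_of_isUnit _ isUnit_one]
  exact hxU

/-- A section of an inverse of an effective Cartier ideal generating exactly off the divisor. -/
theorem exists_section_compl {X : Scheme.{u}} {F : X.IdealSheafData} (hF : BlowUp.IsEffCartierIdeal F)
    {L : X.Modules} (hL : PicF.IsInvertible L) (h : mk L hL = (ic F hF)⁻¹) :
    ∃ s : Coh.structureModule X ⟶ L, ∀ x, x ∈ CohB1.genLocus L s ↔ x ∉ F.support := by
  have h1 := Dix.Cast5.exists_section F.subschemeι (by rw [F.ker_subschemeι]; exact hF)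
  rw [F.ker_subschemeι] at h1
  obtain ⟨s, hs⟩ := h1
  rw [ic, inv_mk, mk_eq_iff] at h
  obtain ⟨e⟩ := h
  refine ⟨s ≫ e.inv, fun x => ?_⟩
  rw [Ega2.Weight.genLocus_comp, ← SetLike.mem_coe, hs, F.range_subschemeι]
  rfl

variable (k : Type u) [Field k] [IsAlgClosed k]

/-- The ideal class of a closed point of the projective line. -/
theorem ic_pt {y : CohB1.ProjSpace 1 k} (hy : IsClosed ({y} : Set (CohB1.ProjSpace 1 k)))
    (hE : BlowUp.IsEffCartierIdeal (pt hy)) : ic (pt hy) hE = (o1 k)⁻¹ := by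
  have := isProper_P1 k
  obtain ⟨N, hN, hN'⟩ := exists_mk (ic (pt hy) hE)
  obtain ⟨m, hm⟩ := S1697.result k 1 N hN
  have h1 : ic (pt hy) hE = o1 k ^ m := by
    rw [hN', ← mk_twist, mk_eq_iff]
    exact hm
  have h2 := degC_pt k (dim_P1 k) hy hE
  rw [h1, ← mk_twist, degC_twist] at h2
  rw [h1, h2, zpow_neg, zpow_one]

variable {k} {X : Scheme.{u}} [X.Over (Spec (CommRingCat.of k))]
  [IsProper (X ↘ Spec (CommRingCat.of k))] [IsIntegral X]
  {C₀ : X.IdealSheafData} (hC₀ : IsCurve C₀) (hE₀ : BlowUp.IsEffCartierIdeal C₀)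
  (h00 : dot k X (ic C₀ hE₀) (ic C₀ hE₀) = 0) (hH1 : Subsingleton (Coh.HH X (ClSub.quotMod C₀) 1))
  (hO1 : Subsingleton (Coh.HH X (Coh.structureModule X) 1))
  (hmem : ∀ (F : X.IdealSheafData) (hF : BlowUp.IsEffCartierIdeal F), ic F hF = ic C₀ hE₀ → IsCurve F)

include hC₀ h00 hH1 hO1 hmem in
/-- The pencil of `C₀`. -/
theorem exists_map : ∃ π : X ⟶ CohB1.ProjSpace 1 k,
    π ≫ (CohB1.ProjSpace 1 k ↘ Spec (CommRingCat.of k)) = (X ↘ Spec (CommRingCat.of k)) ∧
      Function.Surjective π ∧ pull π (o1 k) = (ic C₀ hE₀)⁻¹ := by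
  have := isProper_P1 k
  obtain ⟨L, hL, hLe⟩ := exists_mk (ic C₀ hE₀)⁻¹
  have hM : Subsingleton (Coh.HH X (CohB1.tensorMod (ClSub.idealMod C₀) L) 1) := by
    have h1 : ic C₀ hE₀ * mk L hL = 1 := by rw [← hLe, mul_inv_cancel]
    rw [ic, mk_mul_mk, mk_eq_one_iff] at h1
    obtain ⟨e⟩ := h1
    exact hh_congr e 1 hO1
  have hdeg0 : degOn k X C₀ (ic C₀ hE₀) = 0 := by
    rw [degOn_eq_neg_dot k X hE₀, h00, neg_zero]
  have hdeg : 0 ≤ degOn k X C₀ (mk L hL) := by
    rw [← hLe, degOn_inv k hC₀, hdeg0, neg_zero]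
  obtain ⟨s, hs⟩ := exists_gen_on_curve k hC₀ hH1 hL hM hdeg (gp_mem hC₀)
  obtain ⟨D₁, hD₁, h1, h2⟩ := exists_eff_off hL s hs
  have hD₁c : ic D₁ hD₁ = ic C₀ hE₀ := by
    rw [← inv_inj, ← h1, hLe]
  have hcD : IsCurve D₁ := hmem D₁ hD₁ hD₁c
  have hdisj : Disjoint (C₀.support : Set X) D₁.support :=
    (dot_ic_ic_eq_zero_iff k hC₀ hE₀ hD₁ h2).1 (by rw [hD₁c, h00])
  obtain ⟨s₀, hs₀⟩ := exists_section_compl hE₀ hL hLe.symm
  obtain ⟨s₁, hs₁⟩ := exists_section_compl hD₁ hL h1
  have hcov : ⨆ i, CohB1.genLocus L ((![s₀, s₁] : Fin 2 → (Coh.structureModule X ⟶ L)) i) = ⊤ := by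
    refine top_le_iff.1 fun x _ => ?_
    rw [Opens.mem_iSup]
    by_cases hx : x ∈ C₀.support
    · exact ⟨1, (hs₁ x).2 fun hx1 => Set.disjoint_left.1 hdisj hx hx1⟩
    · exact ⟨0, (hs₀ x).2 hx⟩
  obtain ⟨φ, -, hφ, hpre, -, e, -⟩ :=
    CurvesC.ProjMap.exists_morphism (n := 1) (X ↘ Spec (CommRingCat.of k)) L ![s₀, s₁] hcov
  have hφ' : φ ≫ (CohB1.ProjSpace 1 k ↘ Spec (CommRingCat.of k)) = (X ↘ Spec (CommRingCat.of k)) := hφ
  have hprop : IsProper φ := K464.FibCurve.isProper k φ hφ'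
  have hp : ∀ x i, φ x ∈ CurvesC.ProjSpaceBasic.Dp 1 k i ↔
      x ∈ CohB1.genLocus L ((![s₀, s₁] : Fin 2 → (Coh.structureModule X ⟶ L)) i) := fun x i => by
    rw [← hpre i]; rfl
  have hgen : φ (genericPoint X) = genericPoint (CohB1.ProjSpace 1 k) := by
    by_contra hne
    have hcl := isClosed_of_ne (dim_P1 k) hne
    have hconst : ∀ x, φ x = φ (genericPoint X) := fun x => by
      have h3 := (genericPoint_specializes x).map φ.continuous
      have h4 := h3.mem_closure
      rw [hcl.closure_eq] at h4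
      exact h4
    have h3 : φ (gp hC₀) ∈ CurvesC.ProjSpaceBasic.Dp 1 k 1 := (hp _ 1).2 ((hs₁ _).2 h2)
    have h4 : φ (gp hcD) ∉ CurvesC.ProjSpaceBasic.Dp 1 k 1 := fun h => (hs₁ _).1 ((hp _ 1).1 h) (gp_mem hcD)
    rw [hconst] at h3 h4
    exact h4 h3
  refine ⟨φ, hφ', ?_, ?_⟩
  · have hrc : IsClosed (Set.range φ) := φ.isClosedMap.isClosed_range
    have h3 : closure {genericPoint (CohB1.ProjSpace 1 k)} ⊆ Set.range φ := by
      refine closure_minimal ?_ hrc
      rw [Set.singleton_subset_iff, ← hgen]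
      exact ⟨_, rfl⟩
    rw [← Set.range_eq_univ]
    refine Set.univ_subset_iff.1 fun y _ => h3 ?_
    exact (genericPoint_specializes y).mem_closure
  · rw [hLe, pull_mk, mk_eq_iff]
    exact ⟨e⟩

section fib

variable (hdim : topologicalKrullDim X = 2) (π : X ⟶ CohB1.ProjSpace 1 k)
  (hπ : π ≫ (CohB1.ProjSpace 1 k ↘ Spec (CommRingCat.of k)) = (X ↘ Spec (CommRingCat.of k)))
  (hsurj : Function.Surjective π) (hpull : pull π (o1 k) = (ic C₀ hE₀)⁻¹)

include hC₀ hH1 hmem hsurj hpull in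
/-- The closed fibres of the pencil are projective lines. -/
theorem fibre (y : CohB1.ProjSpace 1 k) (hy : IsClosed ({y} : Set (CohB1.ProjSpace 1 k))) :
    Nonempty (pullback π ((CohB1.ProjSpace 1 k).fromSpecResidueField y) ≅ CohB1.ProjSpace 1 k) := by
  have := isProper_P1 k
  have : Surjective π := ⟨hsurj⟩
  have hE := isEff_pt k (CohB1.ProjSpace 1 k ↘ Spec (CommRingCat.of k)) (dim_P1 k) (hreg_P1 k) hy
  have hF := isEff_fibre π (dim_P1 k) hy hE
  have hcl : ic ((pt hy).comap π) hF = ic C₀ hE₀ := by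
    rw [← pull_ic π hE hF, ic_pt k hy hE, map_inv, hpull, inv_inv]
  have hc := hmem _ hF hcl
  have h1 : Curv2.euler k X (ClSub.quotMod ((pt hy).comap π)) = Curv2.euler k X (ClSub.quotMod C₀) := by
    rw [euler_quotMod_eq k X hF, euler_quotMod_eq k X hE₀, hcl]
  rw [K464.RatConf.euler_curve k hc, K464.RatConf.euler_curve k hC₀,
    Module.finrank_zero_of_subsingleton (M := Coh.HH X (ClSub.quotMod C₀) 1)] at h1
  have h2 : Module.finrank k (Coh.HH X (ClSub.quotMod ((pt hy).comap π)) 1) = 0 := by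
    push_cast at h1
    omega
  let _ := overC k X ((pt hy).comap π)
  have := isProper_sub k X ((pt hy).comap π)
  have := hc.integral
  have h3 : Subsingleton (Coh.HH ((pt hy).comap π).subscheme
      (Coh.structureModule ((pt hy).comap π).subscheme) 1) := by
    have h4 := K464.Cohom.finite_HH k (isCoh_quotMod X ((pt hy).comap π)) 1
    have h5 : Subsingleton (Coh.HH X (ClSub.quotMod ((pt hy).comap π)) 1) := Module.finrank_zero_iff.1 h2
    exact (hhSub0 k ((pt hy).comap π) 1).symm.toEquiv.subsingleton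
  obtain ⟨e, -⟩ := K896.TailBridge.exists_iso_P1 k ((pt hy).comap π).subscheme ((dim_sub X _).trans hc.dim) h3
  have hci : IsClosedImmersion ((CohB1.ProjSpace 1 k).fromSpecResidueField y) :=
    isClosed_singleton_iff_isClosedImmersion.mp hy
  obtain ⟨q, hq⟩ := exists_isPullback ((CohB1.ProjSpace 1 k).fromSpecResidueField y) (pt hy)
    (K456.Ruled.vanishingIdeal_point y hy).symm π
  exact ⟨hq.isoPullback.symm ≪≫ e⟩

variable [Smooth (X ↘ Spec (CommRingCat.of k))]

omit [IsAlgClosed k] in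
include hdim hπ hpull in
/-- A section of the pencil gives a class of degree one on `C₀`. -/
theorem exists_class (σ : CohB1.ProjSpace 1 k ⟶ X) (hσ : σ ≫ π = 𝟙 _) :
    ∃ s : Pic X, dot k X (ic C₀ hE₀)⁻¹ s = 1 := by
  have := isProper_P1 k
  have hσc : IsClosedImmersion σ := by
    have := K464.FibCurve.isProper k π hπ
    have : IsClosedImmersion (σ ≫ π) := by rw [hσ]; infer_instance
    exact IsClosedImmersion.of_comp σ π
  obtain ⟨L, hL, hLe⟩ := exists_mk (ic C₀ hE₀)⁻¹
  have hc := (K465.NumTriv.curveDeg_eq (k := k) hdim σ inferInstance (dim_P1 k) hL).1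
  have hE := isEff_of_smooth k hdim hc
  refine ⟨(ic σ.ker hE)⁻¹, ?_⟩
  have hσk : σ ≫ (X ↘ (Spec (CommRingCat.of k))) = CohB1.ProjSpace 1 k ↘ Spec (CommRingCat.of k) := by
    rw [← hπ, reassoc_of% hσ]
  have h1 := K456.IntTwo.intNum_ker k hdim.le σ hσk hL
  rw [intNum_eq_dot k X hdim.le (Dix.IdealModCartier.isInvertible_idealMod hE) hL] at h1
  have h2 : degC k (CohB1.ProjSpace 1 k) (pull σ (mk L hL)) = 1 := by
    rw [← hLe, ← hpull, ← pull_comp, hσ, pull_id]
    exact degC_twist k 1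
  rw [pull_mk, degC_mk] at h2
  rw [h2] at h1
  rw [dot_inv_right k X hdim.le, hLe, dot_comm]
  change - dot k X (ic σ.ker hE) (mk L hL) = 1
  have h3 : dot k X (ic σ.ker hE) (mk L hL) = -1 := h1
  rw [h3, neg_neg]

end fib

end K102.Pencil
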