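import Groth.Agent.Surf.K102.LatX
import Groth.Agent.Surf.K102.Pencil
import Groth.Agent.S18452

/-!
# Curves of self-intersection zero on del Pezzo surfaces of degree at most seven (K102)

`exists_m1`: on a del Pezzo surface with `K² ≤ 7` every curve of self-intersection zero is orthogonal to a
`(-1)`-curve.
-/

set_option autoImplicit false
universe u
open CategoryTheory CategoryTheory.Limits AlgebraicGeometry TopologicalSpace Opposite

namespace K102.CBun

open Groth.Agent Groth.Agent.Grpsch.PicGrp K464.Base K464.Curves K102.NumLat K102.LatX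
open Groth.Agent.Surf.K460.SurfKit Groth.Agent.Surf.K460.DelPezzo

theorem support_nonempty {X : Scheme.{u}} {F : X.IdealSheafData} (hF : F ≠ ⊤) : (F.support : Set X).Nonempty := by
  by_contra hne
  apply hF
  rw [← Scheme.IdealSheafData.support_eq_bot_iff]
  apply TopologicalSpace.Closeds.ext
  rw [Set.not_nonempty_iff_eq_empty.1 hne]
  rfl

variable {k : Type u} [Field k] [IsAlgClosed k] {X : Scheme.{u}} [X.Over (Spec (CommRingCat.of k))]
  [IsProper (X ↘ Spec (CommRingCat.of k))] [Smooth (X ↘ Spec (CommRingCat.of k))] [IsIntegral X] {W D : X.Modules}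
  (P : DP k X W D) (hK : Kod k X)

/-- Effective divisors in the class of a curve of square zero orthogonal to no `(-1)`-curve are integral curves. -/
theorem isCurve_of_eq {C : {C : X.IdealSheafData // IsCurve C}}
    (h0 : (latX k P hK).B ((latX k P hK).cl C) ((latX k P hK).cl C) = 0)
    (hno : ∀ C', (latX k P hK).M1 C' → (latX k P hK).B ((latX k P hK).cl C) ((latX k P hK).cl C') ≠ 0)
    (hE : BlowUp.IsEffCartierIdeal C.1) (F : X.IdealSheafData) (hF : BlowUp.IsEffCartierIdeal F)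
    (hcl : ic F hF = ic C.1 hE) : IsCurve F := by
  have hLN : IsLocallyNoetherian X := LocallyOfFiniteType.isLocallyNoetherian (X ↘ Spec (CommRingCat.of k))
  have hT : F ≠ ⊤ := by
    rintro rfl
    have h1 := (latX k P hK).pos C
    have h2 : (latX k P hK).cl C = 0 := by
      change Additive.ofMul (ic C.1 hE)⁻¹ = 0
      rw [← hcl, show ic (⊤ : X.IdealSheafData) hF = 1 from ic_top, inv_one, ofMul_one]
    rw [h2, map_zero, AddMonoidHom.zero_apply] at h1
    exact lt_irrefl _ h1
  obtain ⟨x, hx⟩ := support_nonempty hT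
  obtain ⟨E, hEc, hFE, hxE⟩ := K464.Comp.exists_curve_le (X ↘ Spec (CommRingCat.of k)) P.hdim hF x hx
  have hEe := isEff_of_smooth k P.hdim hEc
  obtain ⟨J, hJ, hmul⟩ := Divis.ColonIdeal.exists_mul_eq hEe hF hFE
  have hic : ic F hF = ic E hEe * ic J hJ := by
    rw [← ic_mul hEe hJ]
    exact ic_congr _ _ hmul.symm
  have h1 : (Additive.ofMul (ic J hJ)⁻¹ : Additive (Pic X)) = 0 := by
    refine (latX k P hK).eq_zero_of_add h0 hno (j := ⟨E, hEc⟩) (eff_mem k P.hdim hJ) ?_
    change (Additive.ofMul (ic C.1 hE)⁻¹ : Additive (Pic X)) =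
      Additive.ofMul (ic E hEe)⁻¹ + Additive.ofMul (ic J hJ)⁻¹
    rw [← ofMul_mul, ← mul_inv, ← hic, hcl]
  have h2 : (ic J hJ)⁻¹ = 1 := h1
  have h3 : J = ⊤ := (dot_eff k P.hdim P.hamp hJ).2 (by rw [h2, dot_one_left])
  rw [h3, ← Scheme.IdealSheafData.one_eq_top, mul_one] at hmul
  rw [← hmul]
  exact hEc

/-- A curve of self-intersection zero is orthogonal to a `(-1)`-curve. -/
theorem exists_m1 (hd7 : dot k X (mk W P.hWi) (mk W P.hWi) ≤ 7) (C : {C : X.IdealSheafData // IsCurve C})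
    (h0 : (latX k P hK).B ((latX k P hK).cl C) ((latX k P hK).cl C) = 0) :
    ∃ C', (latX k P hK).M1 C' ∧ (latX k P hK).B ((latX k P hK).cl C) ((latX k P hK).cl C') = 0 := by
  by_contra hcon
  push Not at hcon
  have hE := isEff_of_smooth k P.hdim C.2
  have h00 : dot k X (ic C.1 hE) (ic C.1 hE) = 0 := by
    rw [← dot_inv_inv k X P.hdim.le]; exact h0
  have h2 : dot k X (ic C.1 hE) (mk W P.hWi) = 2 := by
    rw [← dot_inv_inv k X P.hdim.le]; exact (latX k P hK).cl_δ h0
  have h3 := K463.RRd.adj k P.hdim P.hW P.hWi hE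
  rw [K464.RatConf.euler_curve k C.2, h00, h2] at h3
  have h4 : Module.finrank k (Coh.HH X (ClSub.quotMod C.1) 1) = 0 := by omega
  have hH1 : Subsingleton (Coh.HH X (ClSub.quotMod C.1) 1) :=
    K463.RRd.subsingleton_of_finrank k (K464.Base.isCoh_quotMod X C.1) 1 h4
  have hO1 : Subsingleton (Coh.HH X (Coh.structureModule X) 1) :=
    K463.RRd.subsingleton_of_finrank k (K464.Base.isCoh_unit k X) 1 (P.h1_one hK)
  have hmem := fun F hF => isCurve_of_eq P hK h0 hcon hE F hF
  obtain ⟨π, hπ, hsurj, hpull⟩ := K102.Pencil.exists_map C.2 hE h00 hH1 hO1 hmem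
  have := K464.Hirz.isProper_P1 k
  obtain ⟨σ, hσ⟩ := S18452.result k X P.hdim (CohB1.ProjSpace 1 k) (K464.Hirz.dim_P1 k) (K464.Hirz.hreg_P1 k) π hπ
    hsurj (K102.Pencil.fibre C.2 hE hH1 hmem π hsurj hpull)
  obtain ⟨s, hs⟩ := K102.Pencil.exists_class hE P.hdim π hπ hpull σ hσ
  refine (latX k P hK).false_of_section h0 hcon ?_ (s := Additive.ofMul s) hs
  change dot k X (mk W P.hWi)⁻¹ (mk W P.hWi)⁻¹ ≤ 7
  rw [dot_inv_inv k X P.hdim.le]
  exact hd7

end K102.CBun
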