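import Groth.Agent.Surf.K465.NakSurf
import Groth.Agent.Surf.K464.Comp

/-!
# Nef classes and the Hodge index theorem on a smooth proper surface, in terms of `dot` (K102)
-/

set_option autoImplicit false
universe u
open CategoryTheory CategoryTheory.Limits AlgebraicGeometry Opposite TopologicalSpace

namespace K102.NefSq

open Groth.Agent.Grpsch.PicGrp Groth.Agent K465.NumTriv K465.NumPic K464.Base K464.Curves K465.AmpReal

variable {k : Type u} [Field k] {X : Scheme.{u}} [X.Over (Spec (CommRingCat.of k))]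
  [IsProper (X ↘ Spec (CommRingCat.of k))]

/-- The Hodge index theorem. -/
theorem hodge [IsIntegral X] (hdim : topologicalKrullDim X = 2) (hproj : ∃ H : X.Modules, CohB1.IsAmple H) {a b : Pic X}
    (ha : 0 < dot k X a a) (hab : dot k X a b = 0) : dot k X b b ≤ 0 := by
  have hd : topologicalKrullDim X ≤ (2 : ℕ) := by rw [hdim]; rfl
  obtain ⟨H, hH⟩ := hproj
  obtain ⟨L, hL, rfl⟩ := exists_mk a
  obtain ⟨M, hM, rfl⟩ := exists_mk b
  rw [← intNum_eq_dot k X hd hL hL, ← K465.Ip.ip_mk k hd hL hL] at ha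
  rw [← intNum_eq_dot k X hd hL hM, ← K465.Ip.ip_mk k hd hL hM] at hab
  rw [← intNum_eq_dot k X hd hM hM, ← K465.Ip.ip_mk k hd hM hM]
  exact K465.Hodge2.hodge_pos k hd hdim hH hL hM ha hab

/-- The equality case of the Hodge index theorem. -/
theorem dot_eq_zero_of_hodge [IsIntegral X] (hdim : topologicalKrullDim X = 2)
    (hproj : ∃ H : X.Modules, CohB1.IsAmple H) {a b : Pic X}
    (ha : 0 < dot k X a a) (hab : dot k X a b = 0) (hbb : 0 ≤ dot k X b b) (c : Pic X) : dot k X b c = 0 := by
  have hd : topologicalKrullDim X ≤ (2 : ℕ) := by rw [hdim]; rfl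
  have hbb' : dot k X b b = 0 := le_antisymm (hodge hdim hproj ha hab) hbb
  -- adjust `c` to be orthogonal to `a`
  set m : ℤ := dot k X a a with hm
  obtain ⟨c', hc'⟩ : ∃ c' : Pic X, c' = c ^ m * (a ^ (dot k X a c))⁻¹ := ⟨_, rfl⟩
  have h1 : dot k X a c' = 0 := by
    rw [hc', dot_mul_right k X hd, dot_inv_right k X hd, dot_zpow_right k X hd, dot_zpow_right k X hd, ← hm]
    ring
  have h2 : dot k X b c' = m * dot k X b c := by
    rw [hc', dot_mul_right k X hd, dot_inv_right k X hd, dot_zpow_right k X hd, dot_zpow_right k X hd,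
      dot_comm k X b a, hab]
    ring
  by_contra hne
  have hne' : dot k X b c' ≠ 0 := by rw [h2]; exact mul_ne_zero ha.ne' hne
  have key : ∀ t : ℤ, 2 * t * dot k X b c' + dot k X c' c' ≤ 0 := by
    intro t
    have h3 := hodge hdim hproj (k := k) (b := b ^ t * c') ha (by
      rw [dot_mul_right k X hd, dot_zpow_right k X hd, hab, h1]; ring)
    rw [dot_mul_left k X hd, dot_mul_right k X hd, dot_mul_right k X hd, dot_zpow_left k X hd, dot_zpow_right k X hd,
      dot_zpow_left k X hd, dot_zpow_right k X hd, hbb', dot_comm k X c' b] at h3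
    linarith
  have h4 := key (dot k X b c' * (1 + |dot k X c' c'|))
  have h5 : 1 ≤ dot k X b c' * dot k X b c' := by
    have : 0 < dot k X b c' * dot k X b c' := mul_self_pos.mpr hne'
    omega
  have h6 : 0 ≤ |dot k X c' c'| := abs_nonneg _
  have h7 : - |dot k X c' c'| ≤ dot k X c' c' := neg_abs_le _
  nlinarith

variable [Smooth (X ↘ Spec (CommRingCat.of k))] [IsIntegral X]

theorem nef_of_degOn (hdim : topologicalKrullDim X = 2) {L : X.Modules} (hL : PicF.IsInvertible L)
    (h : ∀ C : X.IdealSheafData, IsCurve C → 0 ≤ degOn k X C (mk L hL)) : K909.Kleiman.Nef k X L := by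
  intro Y i _ hY hY1
  obtain ⟨hC, h1⟩ := curveDeg_eq (k := k) hdim i hY hY1 hL
  rw [h1]
  exact h _ hC

/-- Nef classes have nonnegative square. -/
theorem dot_self_nonneg (hdim : topologicalKrullDim X = 2) (hproj : ∃ H : X.Modules, CohB1.IsAmple H) {a : Pic X}
    (h : ∀ C : X.IdealSheafData, IsCurve C → 0 ≤ degOn k X C a) : 0 ≤ dot k X a a := by
  have hd : topologicalKrullDim X ≤ (2 : ℕ) := by rw [hdim]; rfl
  obtain ⟨L, hL, rfl⟩ := exists_mk a
  obtain ⟨H, hH⟩ := hproj
  rw [← K465.NakSurf.inter_two k hdim hL]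
  refine K909.Kleiman.nonneg_mixed (k := k) (K424.NakMain.nak k) hd (nef_of_degOn hdim hL h) hL hH
    (Coh.structureModule X) (isCoh_unit k X) (support_le X hd _) _ (fun _ => Or.inl rfl)

/-- A nef class orthogonal to a class of positive square is numerically trivial. -/
theorem numTriv_of_nef (hdim : topologicalKrullDim X = 2) (hproj : ∃ H : X.Modules, CohB1.IsAmple H) {a b : Pic X}
    (ha : 0 < dot k X a a) (hab : dot k X a b = 0) (h : ∀ C : X.IdealSheafData, IsCurve C → 0 ≤ degOn k X C b)
    (c : Pic X) : dot k X b c = 0 :=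
  dot_eq_zero_of_hodge hdim hproj ha hab (dot_self_nonneg hdim hproj h) c

end K102.NefSq
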