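import Groth.Agent.Surf.K102.NumLat
import Groth.Agent.Surf.K102.NefSq
import Groth.Agent.Surf.K460.DPGlob
import Groth.Agent.Surf.K463.RRd
import Groth.Agent.Surf.K464.RatConf

/-!
# The numerical lattice of a del Pezzo surface (K102)

`latX P hK : Lat (Additive (Pic X)) {C // IsCurve C}` : the Picard group of a smooth proper surface with ample
anticanonical module as a lattice in the sense of `K102.NumLat`.
-/

set_option autoImplicit false
universe u
open CategoryTheory CategoryTheory.Limits AlgebraicGeometry TopologicalSpace Opposite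

namespace K102.LatX

open Groth.Agent Groth.Agent.Grpsch.PicGrp K464.Base K464.Curves K102.NumLat
open Groth.Agent.Surf.K460.SurfKit Groth.Agent.Surf.K460.DelPezzo

variable (k : Type u) [Field k] {X : Scheme.{u}} [X.Over (Spec (CommRingCat.of k))]
  [IsProper (X ↘ Spec (CommRingCat.of k))]

/-- The intersection form on the additive Picard group. -/
noncomputable def form (hdim : topologicalKrullDim X ≤ (2 : ℕ)) : Additive (Pic X) →+ Additive (Pic X) →+ ℤ :=
  AddMonoidHom.mk' (fun a => AddMonoidHom.mk' (fun b => dot k X a.toMul b.toMul)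
    (fun b c => dot_mul_right k X hdim _ _ _))
    (fun a b => by ext c; exact dot_mul_left k X hdim _ _ _)

theorem form_apply (hdim : topologicalKrullDim X ≤ (2 : ℕ)) (a b : Additive (Pic X)) :
    form k hdim a b = dot k X a.toMul b.toMul := rfl

section cls

variable [Smooth (X ↘ Spec (CommRingCat.of k))] [IsIntegral X] (hdim : topologicalKrullDim X = 2)

/-- The class of a curve. -/
noncomputable def cls (C : {C : X.IdealSheafData // IsCurve C}) : Additive (Pic X) :=
  Additive.ofMul (ic C.1 (isEff_of_smooth k hdim C.2))⁻¹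

theorem cls_eq (C : {C : X.IdealSheafData // IsCurve C}) (hE : BlowUp.IsEffCartierIdeal C.1) :
    cls k hdim C = Additive.ofMul (ic C.1 hE)⁻¹ := rfl

theorem form_cls (a : Additive (Pic X)) (C : {C : X.IdealSheafData // IsCurve C}) :
    form k hdim.le a (cls k hdim C) = degOn k X C.1 a.toMul := by
  rw [form_apply, cls, toMul_ofMul, dot_inv_right k X hdim.le, dot_comm, dot_ic_eq, neg_neg]

/-- Effective divisors are sums of curves. -/
theorem eff_mem {F : X.IdealSheafData} (hF : BlowUp.IsEffCartierIdeal F) :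
    (Additive.ofMul (ic F hF)⁻¹ : Additive (Pic X)) ∈ AddSubmonoid.closure (Set.range (cls k hdim)) := by
  have : IsNoetherian X := CurvesB.CurveRR.isNoetherian_of_proper k X
  refine K464.Comp.eff_induction k (X ↘ Spec (CommRingCat.of k)) hdim (fun x => S1535.result k X x)
    (P := fun F => ∀ hF : BlowUp.IsEffCartierIdeal F,
      (Additive.ofMul (ic F hF)⁻¹ : Additive (Pic X)) ∈ AddSubmonoid.closure (Set.range (cls k hdim))) ?_ ?_ F hF hF
  · intro h
    rw [show ic (⊤ : X.IdealSheafData) h = 1 from ic_top, inv_one, ofMul_one]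
    exact AddSubmonoid.zero_mem _
  · intro C F hC hCe hFe ih h
    have h1 : ic (C * F) h = ic C hCe * ic F hFe := ic_mul hCe hFe
    rw [h1, mul_inv, ofMul_mul]
    exact AddSubmonoid.add_mem _ (AddSubmonoid.subset_closure ⟨⟨C, hC⟩, rfl⟩) (ih hFe)

end cls

variable [IsAlgClosed k] [Smooth (X ↘ Spec (CommRingCat.of k))] [IsIntegral X] {W D : X.Modules}

/-- The lattice of a del Pezzo surface. -/
noncomputable def latX (P : DP k X W D) (hK : Kod k X) : Lat (Additive (Pic X)) {C : X.IdealSheafData // IsCurve C} where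
  B := form k P.hdim.le
  symm a b := dot_comm k X _ _
  cl := cls k P.hdim
  δ := Additive.ofMul (mk W P.hWi)⁻¹
  dpos := by
    change 0 < dot k X (mk W P.hWi)⁻¹ (mk W P.hWi)⁻¹
    rw [dot_inv_inv k X P.hdim.le]
    exact P.deg_pos
  rr a h1 h2 := by
    change 0 < dot k X a.toMul a.toMul + dot k X a.toMul (mk W P.hWi)⁻¹ + 2 at h1
    change - dot k X (mk W P.hWi)⁻¹ (mk W P.hWi)⁻¹ < dot k X a.toMul (mk W P.hWi)⁻¹ at h2
    rw [dot_inv_inv k X P.hdim.le] at h2
    rw [dot_inv_right k X P.hdim.le] at h1 h2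
    have h3 := P.rr' hK a.toMul
    have h4 := P.h2_eq_zero (c := a.toMul) (by linarith)
    have h5 := chi_eq k P.hdim.le a.toMul
    rw [h4] at h5
    have h6 : 0 < h k X 0 a.toMul := by
      have := Int.natCast_nonneg (h k X 1 a.toMul)
      push_cast at h5
      have h7 : (0 : ℤ) < h k X 0 a.toMul := by linarith
      exact_mod_cast h7
    obtain ⟨F, hF, hF'⟩ := exists_eff_of_h0_pos k h6
    have h8 := eff_mem k P.hdim hF
    rw [← hF'] at h8
    exact h8
  even a := by
    change Even (dot k X a.toMul a.toMul + dot k X a.toMul (mk W P.hWi)⁻¹)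
    rw [dot_inv_right k X P.hdim.le]
    have h3 := P.rr' hK a.toMul
    exact ⟨chi k X a.toMul - 1, by linarith⟩
  ne C C' h := by
    have hE := isEff_of_smooth k P.hdim C.2
    have hE' := isEff_of_smooth k P.hdim C'.2
    change 0 ≤ dot k X (ic C.1 hE)⁻¹ (ic C'.1 hE')⁻¹
    rw [dot_inv_inv k X P.hdim.le]
    exact dot_ic_ic_nonneg k C.2 hE hE' (gp_notMem C.2 C'.2 fun e => h (Subtype.ext e))
  pos C := by
    have hE := isEff_of_smooth k P.hdim C.2
    change 0 < dot k X (ic C.1 hE)⁻¹ (mk W P.hWi)⁻¹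
    rw [← P.mk_D, dot_inv_left k X P.hdim.le, dot_ic_eq, neg_neg]
    exact degOn_pos_of_ample k C.2 P.hamp.1 P.hamp
  nef_sq a h := by
    change 0 ≤ dot k X a.toMul a.toMul
    refine K102.NefSq.dot_self_nonneg P.hdim ⟨D, P.hamp⟩ fun C hC => ?_
    have h1 := h ⟨C, hC⟩
    rwa [form_cls] at h1
  hodge a := by
    change dot k X (mk W P.hWi)⁻¹ (mk W P.hWi)⁻¹ * dot k X a.toMul a.toMul ≤ dot k X a.toMul (mk W P.hWi)⁻¹ ^ 2
    rw [← P.mk_D, dot_comm k X a.toMul (mk D P.hamp.1)]
    exact Groth.Agent.Surf.K460.SurfKit.hodge k P.hdim P.hamp a.toMul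
  adj C := by
    refine ⟨Module.finrank k (Coh.HH X (ClSub.quotMod C.1) 1), ?_⟩
    have hE := isEff_of_smooth k P.hdim C.2
    change dot k X (ic C.1 hE)⁻¹ (ic C.1 hE)⁻¹ - dot k X (ic C.1 hE)⁻¹ (mk W P.hWi)⁻¹ = _
    rw [dot_inv_inv k X P.hdim.le, dot_inv_inv k X P.hdim.le, K463.RRd.adj k P.hdim P.hW P.hWi hE,
      K464.RatConf.euler_curve k C.2]
    ring

variable {k}
variable (P : DP k X W D) (hK : Kod k X)

theorem B_cls (a : Additive (Pic X)) (C : {C : X.IdealSheafData // IsCurve C}) :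
    (latX k P hK).B a ((latX k P hK).cl C) = degOn k X C.1 a.toMul := form_cls k P.hdim a C

theorem nef_iff (a : Additive (Pic X)) :
    (latX k P hK).Nef a ↔ ∀ C : X.IdealSheafData, IsCurve C → 0 ≤ degOn k X C a.toMul := by
  constructor
  · intro h C hC
    have h1 := h ⟨C, hC⟩
    rwa [B_cls] at h1
  · intro h C
    rw [B_cls]
    exact h C.1 C.2

theorem mem_eff_iff (a : Additive (Pic X)) (h : 0 < h k X 0 a.toMul) : a ∈ (latX k P hK).Eff := by
  obtain ⟨F, hF, hF'⟩ := exists_eff_of_h0_pos k h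
  have h8 := eff_mem k P.hdim hF
  rw [← hF'] at h8
  exact h8

/-- The negative curves are the `(-1)`-curves. -/
theorem m1_iff (C : {C : X.IdealSheafData // IsCurve C}) :
    (latX k P hK).M1 C ↔ Subsingleton (Coh.HH C.1.subscheme (Coh.structureModule C.1.subscheme) 1) ∧
      degOn k X C.1 (ic C.1 (isEff_of_smooth k P.hdim C.2))⁻¹ = -1 := by
  have hE := isEff_of_smooth k P.hdim C.2
  have h0 : (latX k P hK).B ((latX k P hK).cl C) ((latX k P hK).cl C) = degOn k X C.1 (ic C.1 hE)⁻¹ := by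
    rw [B_cls]; rfl
  constructor
  · intro h
    have h1 := h.eq
    refine ⟨?_, by rw [← h0]; exact h1.1⟩
    have h2 := K463.RRd.adj k P.hdim P.hW P.hWi hE
    rw [K464.RatConf.euler_curve k C.2] at h2
    have h3 : (latX k P hK).B ((latX k P hK).cl C) ((latX k P hK).cl C) = dot k X (ic C.1 hE) (ic C.1 hE) := by
      change dot k X (ic C.1 hE)⁻¹ (ic C.1 hE)⁻¹ = _
      rw [dot_inv_inv k X P.hdim.le]
    have h4 : (latX k P hK).B ((latX k P hK).cl C) (latX k P hK).δ = dot k X (ic C.1 hE) (mk W P.hWi) := by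
      change dot k X (ic C.1 hE)⁻¹ (mk W P.hWi)⁻¹ = _
      rw [dot_inv_inv k X P.hdim.le]
    rw [h3, h4] at h1
    have h5 : Module.finrank k (Coh.HH X (ClSub.quotMod C.1) 1) = 0 := by omega
    have h6 := K463.RRd.subsingleton_of_finrank k (K464.Base.isCoh_quotMod X C.1) 1 h5
    let _ := K464.Curves.overC k X C.1
    exact (K464.Cohom.hhSub0 k C.1 1).symm.toEquiv.subsingleton
  · rintro ⟨-, h⟩
    unfold Lat.M1
    rw [h0, h]
    norm_num

end K102.LatX
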