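import Mathlib.Topology.Order.DenselyOrdered
import Mathlib.Topology.Instances.Real.Lemmas
import Mathlib.Algebra.Group.Submonoid.Membership
import Mathlib.Tactic

/-!
# The numerical part of the description of the nef cone of a del Pezzo surface (K102)

`Lat A ι`: an abelian group `A` (the Picard group) with a symmetric bilinear form, an anticanonical class `δ`
and a family `cl : ι → A` of classes (of the integral curves), with Riemann–Roch, the Hodge index theorem and
adjunction as axioms.  `L.M1 i` : the curve `i` is negative.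

* `Lat.alt`: if `l` is nonnegative on the negative curves and not nef (`δ² ≤ 7`), then `l` is a negative multiple
  of `δ` or there is a curve of self-intersection zero proportional to a class `l + n δ`.
* `Lat.nef_of`, `Lat.pos_of`: the nefness and ampleness criteria.
* `Lat.eq_zsmul`, `Lat.eq_zero_of_add`: consequences of the absence of negative curves orthogonal to a curve of
  self-intersection zero; `Lat.false_of_section`.
-/

set_option autoImplicit false

namespace K102.NumLat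

/-- The numerical data of a surface with `-K = δ` ample. -/
structure Lat (A : Type*) [AddCommGroup A] (ι : Type*) where
  /-- the intersection form -/
  B : A →+ A →+ ℤ
  symm : ∀ a b, B a b = B b a
  /-- the classes of the curves -/
  cl : ι → A
  /-- the anticanonical class -/
  δ : A
  dpos : 0 < B δ δ
  rr : ∀ a, 0 < B a a + B a δ + 2 → - B δ δ < B a δ → a ∈ AddSubmonoid.closure (Set.range cl)
  even : ∀ a, Even (B a a + B a δ)
  ne : ∀ i j, i ≠ j → 0 ≤ B (cl i) (cl j)
  pos : ∀ i, 0 < B (cl i) δ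
  nef_sq : ∀ a, (∀ i, 0 ≤ B a (cl i)) → 0 ≤ B a a
  hodge : ∀ a, B δ δ * B a a ≤ B a δ ^ 2
  adj : ∀ i, ∃ p : ℕ, B (cl i) (cl i) - B (cl i) δ = 2 * p - 2

namespace Lat

variable {A : Type*} [AddCommGroup A] {ι : Type*} (L : Lat A ι)

/-- effective classes -/
def Eff : AddSubmonoid A := AddSubmonoid.closure (Set.range L.cl)

/-- nef classes -/
def Nef (a : A) : Prop := ∀ i, 0 ≤ L.B a (L.cl i)

/-- negative curves -/
def M1 (i : ι) : Prop := L.B (L.cl i) (L.cl i) < 0

theorem cl_mem (i : ι) : L.cl i ∈ L.Eff := AddSubmonoid.subset_closure ⟨i, rfl⟩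

theorem M1.eq {L : Lat A ι} {i : ι} (h : L.M1 i) : L.B (L.cl i) (L.cl i) = -1 ∧ L.B (L.cl i) L.δ = 1 := by
  obtain ⟨p, hp⟩ := L.adj i
  have h1 := L.pos i
  unfold M1 at h
  constructor <;> omega

/-- the form is nonnegative on nef times effective -/
theorem nef_eff {a b : A} (ha : L.Nef a) (hb : b ∈ L.Eff) : 0 ≤ L.B a b := by
  induction hb using AddSubmonoid.closure_induction with
  | mem x hx => obtain ⟨i, rfl⟩ := hx; exact ha i
  | zero => rw [map_zero]
  | add x y _ _ hx hy => rw [map_add]; exact add_nonneg hx hy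

theorem δ_mem : L.δ ∈ L.Eff := by
  have h := L.dpos
  exact L.rr _ (by linarith) (by linarith)

theorem nef_δ : L.Nef L.δ := fun i => by rw [L.symm]; exact (L.pos i).le

theorem eff_δ {a : A} (ha : a ∈ L.Eff) : 0 ≤ L.B a L.δ := by
  rw [L.symm]; exact L.nef_eff L.nef_δ ha

theorem nef_δ' {a : A} (ha : L.Nef a) : 0 ≤ L.B a L.δ := L.nef_eff ha L.δ_mem

/-- a nonzero effective class is a curve plus an effective class -/
theorem exists_curve {a : A} (ha : a ∈ L.Eff) : a = 0 ∨ ∃ i, ∃ b ∈ L.Eff, a = L.cl i + b := by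
  induction ha using AddSubmonoid.closure_induction with
  | mem x hx => obtain ⟨i, rfl⟩ := hx; exact Or.inr ⟨i, 0, L.Eff.zero_mem, (add_zero _).symm⟩
  | zero => exact Or.inl rfl
  | add x y hx hy ihx ihy =>
    rcases ihx with rfl | ⟨i, b, hb, rfl⟩
    · rcases ihy with rfl | ⟨i, b, hb, rfl⟩
      · exact Or.inl (add_zero _)
      · exact Or.inr ⟨i, b, hb, zero_add _⟩
    · exact Or.inr ⟨i, b + y, L.Eff.add_mem hb hy, add_assoc _ _ _⟩

theorem eq_zero_of_δ {a : A} (ha : a ∈ L.Eff) (h : L.B a L.δ = 0) : a = 0 := by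
  rcases L.exists_curve ha with h0 | ⟨i, b, hb, rfl⟩
  · exact h0
  · exfalso
    rw [map_add, AddMonoidHom.add_apply] at h
    have := L.pos i
    have := L.eff_δ hb
    omega

/-- an effective class nonnegative on the negative curves is nef -/
theorem nef_of_eff {a : A} (ha : a ∈ L.Eff) (h : ∀ i, L.M1 i → 0 ≤ L.B a (L.cl i)) : L.Nef a := by
  intro i
  by_cases hi : L.M1 i
  · exact h i hi
  · unfold M1 at hi
    rw [not_lt] at hi
    clear h
    induction ha using AddSubmonoid.closure_induction with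
    | mem x hx =>
      obtain ⟨j, rfl⟩ := hx
      by_cases hij : j = i
      · subst hij; exact hi
      · exact L.ne j i hij
    | zero => rw [map_zero, AddMonoidHom.zero_apply]
    | add x y _ _ hx hy => rw [map_add, AddMonoidHom.add_apply]; exact add_nonneg hx hy

/-- a class of square zero orthogonal to `δ` is numerically trivial -/
theorem num_triv {z : A} (h0 : L.B z L.δ = 0) (h1 : 0 ≤ L.B z z) (b : A) : L.B z b = 0 := by
  have hd := L.dpos
  have hz : L.B z z = 0 := by
    have := L.hodge z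
    rw [h0] at this
    nlinarith
  set d := L.B L.δ L.δ with hdd
  set b' : A := d • b - (L.B b L.δ) • L.δ with hb'
  have h2 : L.B b' L.δ = 0 := by
    rw [hb']
    simp only [map_sub, map_zsmul, AddMonoidHom.sub_apply, AddMonoidHom.smul_apply, smul_eq_mul]
    rw [← hdd]; ring
  have h3 : L.B z b' = d * L.B z b := by
    rw [hb']
    simp only [map_sub, map_zsmul, smul_eq_mul]
    rw [h0]; ring
  have key : ∀ t : ℤ, 2 * t * L.B z b' + L.B b' b' ≤ 0 := by
    intro t
    have h4 := L.hodge (t • z + b')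
    simp only [map_add, map_zsmul, AddMonoidHom.add_apply, AddMonoidHom.smul_apply, smul_eq_mul] at h4
    rw [h0, h2, hz, L.symm b' z, ← hdd] at h4
    have h5 : d * (2 * t * L.B z b' + L.B b' b') ≤ 0 := by
      calc d * (2 * t * L.B z b' + L.B b' b') = d * (t * (t * 0 + L.B z b') + (t * L.B z b' + L.B b' b')) := by ring
        _ ≤ (t * 0 + 0) ^ 2 := by simpa using h4
        _ = 0 := by ring
    by_contra hc
    rw [not_le] at hc
    nlinarith
  by_contra hne
  have hne' : L.B z b' ≠ 0 := by rw [h3]; exact mul_ne_zero hd.ne' hne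
  have h4 := key (L.B z b' * (1 + |L.B b' b'|))
  have h5 : 1 ≤ L.B z b' * L.B z b' := by
    have : 0 < L.B z b' * L.B z b' := mul_self_pos.mpr hne'
    omega
  have h6 : 0 ≤ |L.B b' b'| := abs_nonneg _
  have h7 : - |L.B b' b'| ≤ L.B b' b' := neg_abs_le _
  nlinarith

/-- numerically trivial classes vanish -/
theorem eq_zero {z : A} (h0 : L.B z L.δ = 0) (h1 : 0 ≤ L.B z z) : z = 0 := by
  have h2 := L.num_triv h0 h1 z
  refine L.eq_zero_of_δ (L.rr z ?_ ?_) h0
  · rw [h2, h0]; norm_num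
  · rw [h0]; have := L.dpos; linarith

/-- A nef class `N` of square zero, not zero and positive on the negative curves is proportional to a curve of
self-intersection zero. -/
theorem exists_fib {N : A} (hN : L.Nef N) (h0 : L.B N N = 0) (h1 : 0 < L.B N L.δ)
    (h2 : ∀ i, L.M1 i → 0 < L.B N (L.cl i)) :
    ∃ i, L.B (L.cl i) (L.cl i) = 0 ∧ ∀ b, L.B N L.δ * L.B (L.cl i) b = L.B (L.cl i) L.δ * L.B N b := by
  have hE : N ∈ L.Eff := L.rr N (by omega) (by have := L.dpos; omega)
  rcases L.exists_curve hE with h | ⟨i, b, hb, hab⟩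
  · rw [h, map_zero, AddMonoidHom.zero_apply] at h1
    exact absurd h1 (lt_irrefl _)
  · have h3 : L.B N (L.cl i) = 0 := by
      have h4 : L.B N N = L.B N (L.cl i) + L.B N b := by
        conv_lhs => rw [show L.B N N = L.B N (L.cl i + b) by rw [← hab]]
        rw [map_add]
      have h5 := hN i
      have h6 := L.nef_eff hN hb
      omega
    have h4 : 0 ≤ L.B (L.cl i) (L.cl i) := by
      by_contra hneg
      rw [not_le] at hneg
      have := h2 i hneg
      omega
    set c := L.cl i with hc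
    set z : A := (L.B N L.δ) • c - (L.B c L.δ) • N with hz
    have h5 : L.B z L.δ = 0 := by
      rw [hz]
      simp only [map_sub, map_zsmul, AddMonoidHom.sub_apply, AddMonoidHom.smul_apply, smul_eq_mul]
      ring
    have h6 : L.B z z = (L.B N L.δ) ^ 2 * L.B c c := by
      rw [hz]
      simp only [map_sub, map_zsmul, AddMonoidHom.sub_apply, AddMonoidHom.smul_apply, smul_eq_mul]
      rw [h0, L.symm c N, h3]
      ring
    have h7 : L.B z z ≤ 0 := by
      have := L.hodge z
      rw [h5] at this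
      have hd := L.dpos
      nlinarith
    refine ⟨i, ?_, fun b => ?_⟩
    · change L.B c c = 0
      rw [h6] at h7
      have : 0 < (L.B N L.δ) ^ 2 := by positivity
      nlinarith
    · have h8 := L.num_triv h5 (by rw [h6]; positivity) b
      rw [hz] at h8
      simp only [map_sub, map_zsmul, AddMonoidHom.sub_apply, AddMonoidHom.smul_apply, smul_eq_mul] at h8
      linarith

/-! ### The threshold -/

theorem nef_add {a b : A} (ha : L.Nef a) (hb : L.Nef b) : L.Nef (a + b) := fun i => by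
  rw [map_add, AddMonoidHom.add_apply]; exact add_nonneg (ha i) (hb i)

/-- a class nonnegative on the negative curves becomes nef after adding a multiple of `δ` -/
theorem exists_nef {l : A} (hl : ∀ i, L.M1 i → 0 ≤ L.B l (L.cl i)) : ∃ n : ℕ, L.Nef (l + n • L.δ) := by
  have hd := L.dpos
  set n : ℕ := (L.B l l).natAbs + 2 * (L.B l L.δ).natAbs + 1 with hn
  have hn1 : |L.B l l| + 2 * |L.B l L.δ| + 1 = (n : ℤ) := by rw [hn]; push_cast; simp
  have h1 : L.B (l + n • L.δ) L.δ = L.B l L.δ + n * L.B L.δ L.δ := by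
    simp only [map_add, map_nsmul, AddMonoidHom.add_apply, AddMonoidHom.smul_apply, nsmul_eq_mul]
  have h2 : L.B (l + n • L.δ) (l + n • L.δ) = L.B l l + 2 * n * L.B l L.δ + n ^ 2 * L.B L.δ L.δ := by
    simp only [map_add, map_nsmul, AddMonoidHom.add_apply, AddMonoidHom.smul_apply, nsmul_eq_mul]
    rw [L.symm L.δ l]; ring
  have h3 := neg_abs_le (L.B l l)
  have h4 := neg_abs_le (L.B l L.δ)
  have h5 := abs_nonneg (L.B l l)
  have h6 := abs_nonneg (L.B l L.δ)
  have hnn : (n : ℤ) ≤ n * L.B L.δ L.δ := by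
    nlinarith [Int.natCast_nonneg n]
  refine ⟨n, L.nef_of_eff (L.rr _ ?_ ?_) fun i hi => ?_⟩
  · rw [h2, h1]
    have h8 : 0 ≤ (n : ℤ) * (n * L.B L.δ L.δ + 2 * L.B l L.δ - |L.B l l|) := by
      refine mul_nonneg (Int.natCast_nonneg n) ?_
      linarith
    have h9 : |L.B l l| ≤ n * |L.B l l| := by nlinarith
    nlinarith
  · rw [h1]; linarith
  · have h7 := hl i hi
    rw [map_add, AddMonoidHom.add_apply, map_nsmul, AddMonoidHom.smul_apply, L.symm L.δ, hi.eq.2]
    simp only [nsmul_eq_mul, mul_one]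
    have := Int.natCast_nonneg n
    linarith

/-- the set of (real) thresholds -/
def Thr (l : A) : Set ℝ := {t | ∀ i, 0 ≤ (L.B l (L.cl i) : ℝ) + t * L.B L.δ (L.cl i)}

theorem thr_iff (l : A) (x y : ℤ) (hx : 0 < x) : L.Nef (x • l + y • L.δ) ↔ ((y : ℝ) / x) ∈ L.Thr l := by
  have hx' : (0 : ℝ) < x := by exact_mod_cast hx
  unfold Nef Thr
  rw [Set.mem_ofPred_eq]
  refine forall_congr' fun i => ?_
  simp only [map_add, map_zsmul, AddMonoidHom.add_apply, AddMonoidHom.smul_apply, smul_eq_mul]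
  have h1 : ((x * L.B l (L.cl i) + y * L.B L.δ (L.cl i) : ℤ) : ℝ) =
      x * ((L.B l (L.cl i) : ℝ) + y / x * L.B L.δ (L.cl i)) := by
    push_cast
    field_simp
  rw [← Int.cast_nonneg_iff (R := ℝ), h1]
  constructor
  · intro h; exact nonneg_of_mul_nonneg_right h hx'
  · intro h; exact mul_nonneg hx'.le h

/-- The nef threshold of a class which is not nef. -/
theorem exists_thr {l : A} (hl : ∀ i, L.M1 i → 0 ≤ L.B l (L.cl i)) (hn : ¬ L.Nef l) :
    ∃ T : ℝ, 0 < T ∧ (∀ x y : ℤ, 0 < x → (L.Nef (x • l + y • L.δ) ↔ T ≤ (y : ℝ) / x)) ∧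
      0 ≤ (L.B l l : ℝ) + 2 * T * L.B l L.δ + T ^ 2 * L.B L.δ L.δ ∧ 0 ≤ (L.B l L.δ : ℝ) + T * L.B L.δ L.δ := by
  have hd := L.dpos
  have hdR : (0 : ℝ) < L.B L.δ L.δ := by exact_mod_cast hd
  have hpos : ∀ i, (0 : ℝ) < L.B L.δ (L.cl i) := fun i => by rw [L.symm]; exact_mod_cast L.pos i
  obtain ⟨n, hnn⟩ := L.exists_nef hl
  have hne : (L.Thr l).Nonempty := by
    refine ⟨((n : ℤ) : ℝ) / ((1 : ℤ) : ℝ), (L.thr_iff l 1 n one_pos).1 ?_⟩
    simpa using hnn
  have hup : ∀ t ∈ L.Thr l, ∀ t', t ≤ t' → t' ∈ L.Thr l := fun t ht t' htt i => by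
    have h1 := ht i
    have h2 := mul_le_mul_of_nonneg_right htt (hpos i).le
    linarith
  have hlow : ∀ i, ∀ t ∈ L.Thr l, - (L.B l (L.cl i) : ℝ) / L.B L.δ (L.cl i) ≤ t := fun i t ht => by
    rw [div_le_iff₀ (hpos i)]
    have h1 := ht i
    linarith
  obtain ⟨i₀, hi₀⟩ : ∃ i, L.B l (L.cl i) < 0 := by
    unfold Nef at hn
    push Not at hn
    exact hn
  have hbdd : BddBelow (L.Thr l) := ⟨_, hlow i₀⟩
  set T := sInf (L.Thr l) with hT
  have hTmem : T ∈ L.Thr l := fun i => by
    have h1 : - (L.B l (L.cl i) : ℝ) / L.B L.δ (L.cl i) ≤ T := le_csInf hne (hlow i)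
    rw [div_le_iff₀ (hpos i)] at h1
    linarith
  have hTpos : 0 < T := by
    have h1 := hlow i₀ T hTmem
    refine lt_of_lt_of_le ?_ h1
    have h2 : (L.B l (L.cl i₀) : ℝ) < 0 := by exact_mod_cast hi₀
    exact div_pos (by linarith) (hpos i₀)
  have hiff : ∀ x y : ℤ, 0 < x → (L.Nef (x • l + y • L.δ) ↔ T ≤ (y : ℝ) / x) := fun x y hx => by
    rw [L.thr_iff l x y hx]
    exact ⟨fun h => csInf_le hbdd h, fun h => hup T hTmem _ h⟩
  refine ⟨T, hTpos, hiff, ?_, ?_⟩
  · -- continuity
    have hcont : Continuous fun t : ℝ => (L.B l l : ℝ) + 2 * t * L.B l L.δ + t ^ 2 * L.B L.δ L.δ := by fun_prop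
    by_contra hneg
    rw [not_le] at hneg
    have h1 : ∀ᶠ t in nhds T, (L.B l l : ℝ) + 2 * t * L.B l L.δ + t ^ 2 * L.B L.δ L.δ < 0 :=
      hcont.continuousAt.eventually_lt_const hneg
    obtain ⟨ε, hε, hball⟩ := Metric.eventually_nhds_iff.1 h1
    obtain ⟨r, hr1, hr2⟩ := exists_rat_btwn (show T < T + ε by linarith)
    have h2 := hball (y := (r : ℝ)) (by rw [Real.dist_eq, abs_of_pos (by linarith)]; linarith)
    have hden : (0 : ℤ) < (r.den : ℤ) := by exact_mod_cast r.den_pos
    have hdenR : (0 : ℝ) < r.den := by exact_mod_cast r.den_pos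
    have hrr : (r : ℝ) = (r.num : ℝ) / ((r.den : ℤ) : ℝ) := by
      rw [Int.cast_natCast]; exact Rat.cast_def r
    have h3 := L.nef_sq _ ((hiff r.den r.num hden).2 (by rw [← hrr]; exact hr1.le))
    simp only [map_add, map_zsmul, AddMonoidHom.add_apply, AddMonoidHom.smul_apply, smul_eq_mul] at h3
    rw [L.symm L.δ l] at h3
    have h4 : (0 : ℝ) ≤ ((r.den : ℤ) : ℝ) * ((r.den : ℤ) * L.B l l + r.num * L.B l L.δ) +
        r.num * ((r.den : ℤ) * L.B l L.δ + r.num * L.B L.δ L.δ) := by exact_mod_cast h3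
    have h5 : (r.num : ℝ) = r * r.den := by
      rw [hrr, Int.cast_natCast]; field_simp
    rw [h5, Int.cast_natCast] at h4
    have h6 : (0 : ℝ) ≤ (r.den : ℝ) ^ 2 * ((L.B l l : ℝ) + 2 * r * L.B l L.δ + r ^ 2 * L.B L.δ L.δ) := by
      calc (0 : ℝ) ≤ _ := h4
        _ = _ := by ring
    have h7 : (0 : ℝ) < (r.den : ℝ) ^ 2 := by positivity
    nlinarith
  · have h1 : ∀ b ∈ L.Eff, 0 ≤ (L.B l b : ℝ) + T * L.B L.δ b := by
      intro b hb
      induction hb using AddSubmonoid.closure_induction with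
      | mem x hx => obtain ⟨i, rfl⟩ := hx; exact hTmem i
      | zero => simp
      | add x y _ _ hx hy =>
        simp only [map_add]
        push_cast
        linarith
    exact h1 _ L.δ_mem

/-- For a real number `T > 0` which is not an integer some positive integer multiple has fractional part in
`(0, 1/2]`. -/
theorem exists_mul_fract {T : ℝ} (hT : 0 < T) (hTi : ∀ n : ℤ, (n : ℝ) ≠ T) :
    ∃ (x : ℤ) (y : ℤ), 0 < x ∧ 0 ≤ y ∧ 0 < x * T - y ∧ x * T - y ≤ 1 / 2 := by
  have hf0 : 0 < Int.fract T := by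
    rcases (Int.fract_nonneg T).lt_or_eq with h | h
    · exact h
    · exfalso
      apply hTi ⌊T⌋
      have := Int.self_sub_floor T
      linarith
  have hf1 := Int.fract_lt_one T
  have hfl : 0 ≤ ⌊T⌋ := Int.floor_nonneg.2 hT.le
  by_cases h : Int.fract T ≤ 1 / 2
  · refine ⟨1, ⌊T⌋, one_pos, hfl, ?_, ?_⟩
    · rw [Int.cast_one, one_mul, Int.self_sub_floor]; exact hf0
    · rw [Int.cast_one, one_mul, Int.self_sub_floor]; exact h
  · rw [not_le] at h
    set g : ℝ := 1 - Int.fract T with hg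
    have hg0 : 0 < g := by linarith
    have hg1 : g < 1 / 2 := by linarith
    -- the smallest `x` with `x g ≥ 1/2`
    set x : ℤ := ⌈1 / 2 / g⌉ with hx
    have hx0 : 0 < x := Int.ceil_pos.2 (by positivity)
    have hx1 : 1 / 2 ≤ x * g := by
      have := Int.le_ceil (1 / 2 / g)
      rwa [div_le_iff₀ hg0] at this
    have hx2 : x * g < 1 := by
      have := Int.ceil_lt_add_one (1 / 2 / g)
      have h3 : (x : ℝ) * g < (1 / 2 / g + 1) * g := mul_lt_mul_of_pos_right this hg0
      have h4 : (1 / 2 / g + 1) * g = 1 / 2 + g := by field_simp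
      linarith
    have hT' : T = ⌊T⌋ + 1 - g := by
      have := Int.self_sub_floor T
      linarith
    have hmul : (x : ℝ) * T - ((x * (⌊T⌋ + 1) - 1 : ℤ) : ℝ) = 1 - x * g := by
      push_cast
      conv_lhs => rw [hT']
      rw [show ⌊(⌊T⌋ : ℝ) + 1 - g⌋ = ⌊T⌋ from by rw [← hT']]
      ring
    refine ⟨x, x * (⌊T⌋ + 1) - 1, hx0, ?_, ?_, ?_⟩
    · nlinarith
    · rw [hmul]; linarith
    · rw [hmul]; linarith

/-! ### The main alternative -/

/-- A class nonnegative on the negative curves which is not nef is a negative multiple of `δ`, or `l + n δ` is nef, of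
square zero and positive against `δ` for some `n ≥ 1`. -/
theorem alt (hd7 : L.B L.δ L.δ ≤ 7) {l : A} (hl : ∀ i, L.M1 i → 0 ≤ L.B l (L.cl i)) (hn : ¬ L.Nef l) :
    ∃ n : ℤ, 0 < n ∧ (l = -(n • L.δ) ∨
      (L.Nef (l + n • L.δ) ∧ L.B (l + n • L.δ) (l + n • L.δ) = 0 ∧ 0 < L.B (l + n • L.δ) L.δ)) := by
  have hd := L.dpos
  have hdR : (0 : ℝ) < L.B L.δ L.δ := by exact_mod_cast hd
  have hd7R : (L.B L.δ L.δ : ℝ) ≤ 7 := by exact_mod_cast hd7
  obtain ⟨T, hT, hiff, hq, hr⟩ := L.exists_thr hl hn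
  by_cases hTi : ∃ n : ℤ, (n : ℝ) = T
  swap
  · -- `T` is not an integer
    exfalso
    push Not at hTi
    obtain ⟨x, y, hx, hy, hs0, hs1⟩ := exists_mul_fract hT hTi
    have hxR : (0 : ℝ) < x := by exact_mod_cast hx
    have h1 : L.B (x • l + y • L.δ) L.δ = x * L.B l L.δ + y * L.B L.δ L.δ := by
      simp only [map_add, map_zsmul, AddMonoidHom.add_apply, AddMonoidHom.smul_apply, smul_eq_mul]
    have h2 : L.B (x • l + y • L.δ) (x • l + y • L.δ) =
        x ^ 2 * L.B l l + 2 * x * y * L.B l L.δ + y ^ 2 * L.B L.δ L.δ := by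
      simp only [map_add, map_zsmul, AddMonoidHom.add_apply, AddMonoidHom.smul_apply, smul_eq_mul]
      rw [L.symm L.δ l]; ring
    have hnn : ¬ L.Nef (x • l + y • L.δ) := by
      rw [hiff x y hx, not_le, div_lt_iff₀ hxR]
      linarith
    apply hnn
    refine L.nef_of_eff (L.rr _ ?_ ?_) fun i hi => ?_
    · rw [h1, h2]
      suffices h : (0 : ℝ) < ((x ^ 2 * L.B l l + 2 * x * y * L.B l L.δ + y ^ 2 * L.B L.δ L.δ +
          (x * L.B l L.δ + y * L.B L.δ L.δ) + 2 : ℤ) : ℝ) by exact_mod_cast h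
      push_cast
      set s : ℝ := x * T - y with hs
      have hy' : (y : ℝ) = x * T - s := by rw [hs]; ring
      have h3 : (x : ℝ) ^ 2 * L.B l l + 2 * x * y * L.B l L.δ + y ^ 2 * L.B L.δ L.δ +
          (x * L.B l L.δ + y * L.B L.δ L.δ) + 2 =
          x ^ 2 * ((L.B l l : ℝ) + 2 * T * L.B l L.δ + T ^ 2 * L.B L.δ L.δ) +
            (x * (1 - 2 * s)) * ((L.B l L.δ : ℝ) + T * L.B L.δ L.δ) + (2 - s * (1 - s) * L.B L.δ L.δ) := by
        rw [hy']; ring
      rw [h3]
      have h4 : 0 ≤ (x : ℝ) ^ 2 * ((L.B l l : ℝ) + 2 * T * L.B l L.δ + T ^ 2 * L.B L.δ L.δ) :=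
        mul_nonneg (by positivity) hq
      have h5 : 0 ≤ (x * (1 - 2 * s)) * ((L.B l L.δ : ℝ) + T * L.B L.δ L.δ) :=
        mul_nonneg (mul_nonneg hxR.le (by linarith)) hr
      have h6 : s * (1 - s) ≤ 1 / 4 := by nlinarith [sq_nonneg (s - 1 / 2)]
      have h7 : s * (1 - s) * L.B L.δ L.δ ≤ 1 / 4 * 7 :=
        mul_le_mul h6 hd7R hdR.le (by norm_num)
      linarith
    · rw [h1]
      suffices h : (-(L.B L.δ L.δ) : ℝ) < ((x * L.B l L.δ + y * L.B L.δ L.δ : ℤ) : ℝ) by exact_mod_cast h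
      push_cast
      have h3 : 0 ≤ (x : ℝ) * ((L.B l L.δ : ℝ) + T * L.B L.δ L.δ) := mul_nonneg hxR.le hr
      have h4 : (x * T - y) * (L.B L.δ L.δ : ℝ) ≤ 1 / 2 * L.B L.δ L.δ := mul_le_mul_of_nonneg_right hs1 hdR.le
      nlinarith
    · have h3 := hl i hi
      simp only [map_add, map_zsmul, AddMonoidHom.add_apply, AddMonoidHom.smul_apply, smul_eq_mul]
      rw [L.symm L.δ, hi.eq.2]
      have := mul_nonneg hx.le h3
      linarith
  · -- `T` is an integer
    obtain ⟨n, rfl⟩ := hTi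
    have hn0 : 0 < n := by exact_mod_cast hT
    refine ⟨n, hn0, ?_⟩
    set N := l + n • L.δ with hNdef
    have hNn : L.Nef N := by
      have := (hiff 1 n one_pos).2 (by simp)
      rwa [one_smul] at this
    have hNE : ∀ i, L.M1 i → 0 < L.B N (L.cl i) := fun i hi => by
      have h3 := hl i hi
      rw [hNdef]
      simp only [map_add, map_zsmul, AddMonoidHom.add_apply, AddMonoidHom.smul_apply, smul_eq_mul]
      rw [L.symm L.δ, hi.eq.2]
      linarith
    have hN2 := L.nef_sq N hNn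
    have hNδ := L.nef_δ' hNn
    rcases hNδ.lt_or_eq with hNδ1 | hNδ0
    · rcases hN2.lt_or_eq with hN21 | hN20
      · -- `N² > 0`
        exfalso
        set x : ℤ := L.B N L.δ with hx
        have h1 : L.B (x • N - L.δ) L.δ = x * x - L.B L.δ L.δ := by
          simp only [map_sub, map_zsmul, AddMonoidHom.sub_apply, AddMonoidHom.smul_apply, smul_eq_mul]
          rw [← hx]
        have h2 : L.B (x • N - L.δ) (x • N - L.δ) = x ^ 2 * L.B N N - 2 * x * x + L.B L.δ L.δ := by
          simp only [map_sub, map_zsmul, AddMonoidHom.sub_apply, AddMonoidHom.smul_apply, smul_eq_mul]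
          rw [L.symm L.δ N, ← hx]; ring
        have h3 : L.Nef (x • N - L.δ) := by
          refine L.nef_of_eff (L.rr _ ?_ ?_) fun i hi => ?_
          · rw [h1, h2]
            nlinarith
          · rw [h1]; nlinarith
          · have h4 := hNE i hi
            simp only [map_sub, map_zsmul, AddMonoidHom.sub_apply, AddMonoidHom.smul_apply, smul_eq_mul]
            rw [L.symm L.δ, hi.eq.2]
            nlinarith
        have h4 : x • N - L.δ = x • l + (x * n - 1) • L.δ := by
          rw [hNdef, smul_add, sub_smul, mul_smul, one_smul]; abel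
        rw [h4, hiff x _ hNδ1, le_div_iff₀ (by exact_mod_cast hNδ1)] at h3
        push_cast at h3
        linarith
      · exact Or.inr ⟨hNn, hN20.symm, hNδ1⟩
    · left
      have h1 : N = 0 := L.eq_zero hNδ0.symm hN2
      rw [hNdef] at h1
      exact eq_neg_of_add_eq_zero_left h1

section criteria

variable (hd7 : L.B L.δ L.δ ≤ 7) (hex : ∃ i, L.M1 i)
  (hcb : ∀ i, L.B (L.cl i) (L.cl i) = 0 → ∃ j, L.M1 j ∧ L.B (L.cl i) (L.cl j) = 0)

include hcb in
/-- no nef class of square zero is positive against `δ` and all negative curves -/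
theorem not_pos_of_sq_zero {N : A} (hN : L.Nef N) (h0 : L.B N N = 0) (h1 : 0 < L.B N L.δ)
    (h2 : ∀ i, L.M1 i → 0 < L.B N (L.cl i)) : False := by
  obtain ⟨i, hi, hi'⟩ := L.exists_fib hN h0 h1 h2
  obtain ⟨j, hj, hj'⟩ := hcb i hi
  have h3 := hi' (L.cl j)
  rw [hj', mul_zero] at h3
  have h4 := mul_pos (L.pos i) (h2 j hj)
  omega

include hd7 hex hcb in
/-- **The nefness criterion.** -/
theorem nef_of {l : A} (hl : ∀ i, L.M1 i → 0 ≤ L.B l (L.cl i)) : L.Nef l := by
  by_contra hn
  obtain ⟨n, hn0, h | ⟨h1, h2, h3⟩⟩ := L.alt hd7 hl hn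
  · obtain ⟨i, hi⟩ := hex
    have h4 := hl i hi
    rw [h] at h4
    simp only [map_neg, map_zsmul, AddMonoidHom.neg_apply, AddMonoidHom.smul_apply, smul_eq_mul] at h4
    rw [L.symm L.δ, hi.eq.2] at h4
    linarith
  · refine L.not_pos_of_sq_zero hcb h1 h2 h3 fun i hi => ?_
    have h4 := hl i hi
    simp only [map_add, map_zsmul, AddMonoidHom.add_apply, AddMonoidHom.smul_apply, smul_eq_mul]
    rw [L.symm L.δ, hi.eq.2]
    linarith

include hd7 hex hcb in
/-- **The ampleness criterion.** -/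
theorem pos_of {l : A} (hl : ∀ i, L.M1 i → 0 < L.B l (L.cl i)) :
    0 < L.B l l ∧ ∀ i, 0 < L.B l (L.cl i) := by
  have hn := L.nef_of hd7 hex hcb (l := l) fun i hi => (hl i hi).le
  have h2 := L.nef_sq l hn
  have hδ := L.nef_δ' hn
  have h3 : 0 < L.B l L.δ := by
    refine lt_of_le_of_ne hδ fun h0 => ?_
    have h4 := L.eq_zero h0.symm h2
    obtain ⟨i, hi⟩ := hex
    have h5 := hl i hi
    rw [h4, map_zero, AddMonoidHom.zero_apply] at h5
    exact lt_irrefl _ h5
  have h4 : 0 < L.B l l := by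
    refine lt_of_le_of_ne h2 fun h0 => ?_
    exact L.not_pos_of_sq_zero hcb hn h0.symm h3 hl
  refine ⟨h4, fun i => ?_⟩
  refine lt_of_le_of_ne (hn i) fun h0 => ?_
  have h5 : 0 ≤ L.B (L.cl i) (L.cl i) := by
    by_contra hneg
    rw [not_le] at hneg
    have := hl i hneg
    omega
  set c := L.cl i with hc
  have hcδ : 0 < L.B c L.δ := L.pos i
  set z : A := (L.B l L.δ) • c - (L.B c L.δ) • l with hz
  have h6 : L.B z L.δ = 0 := by
    rw [hz]
    simp only [map_sub, map_zsmul, AddMonoidHom.sub_apply, AddMonoidHom.smul_apply, smul_eq_mul]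
    ring
  have h7 : L.B z z = (L.B l L.δ) ^ 2 * L.B c c + (L.B c L.δ) ^ 2 * L.B l l := by
    rw [hz]
    simp only [map_sub, map_zsmul, AddMonoidHom.sub_apply, AddMonoidHom.smul_apply, smul_eq_mul]
    rw [L.symm c l, ← h0]
    ring
  have h8 : L.B z z ≤ 0 := by
    have := L.hodge z
    rw [h6] at this
    have hd := L.dpos
    nlinarith
  have h9 : 0 < L.B z z := by
    rw [h7]
    have h10 : 0 < (L.B c L.δ) ^ 2 * L.B l l := by positivity
    have h11 : 0 ≤ (L.B l L.δ) ^ 2 * L.B c c := by positivity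
    linarith
  omega

end criteria

/-! ### The exceptional cases -/

/-- If there are no negative curves and every curve of self-intersection zero is orthogonal to one, every class is a
multiple of `δ`. -/
theorem exists_zsmul (hd7 : L.B L.δ L.δ ≤ 7) (hno : ∀ i, ¬ L.M1 i)
    (hcb : ∀ i, L.B (L.cl i) (L.cl i) = 0 → ∃ j, L.M1 j ∧ L.B (L.cl i) (L.cl j) = 0) (l : A) :
    ∃ n : ℤ, l = n • L.δ := by
  have key : ∀ l : A, ¬ L.Nef l → ∃ n : ℤ, l = n • L.δ := by
    intro l hn
    obtain ⟨n, hn0, h | ⟨h1, h2, h3⟩⟩ := L.alt hd7 (fun i hi => absurd hi (hno i)) hn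
    · exact ⟨-n, by rw [h, neg_smul]⟩
    · exact (L.not_pos_of_sq_zero hcb h1 h2 h3 fun i hi => absurd hi (hno i)).elim
  by_cases h1 : L.Nef l
  · by_cases h2 : L.Nef (-l)
    · have h3 := L.nef_δ' h1
      have h4 := L.nef_δ' h2
      rw [map_neg, AddMonoidHom.neg_apply] at h4
      refine ⟨0, ?_⟩
      rw [zero_smul]
      exact L.eq_zero (by omega) (L.nef_sq l h1)
    · obtain ⟨n, hn⟩ := key _ h2
      exact ⟨-n, by rw [neg_smul, ← hn, neg_neg]⟩
  · exact key l h1

section fib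

variable {i : ι} (h0 : L.B (L.cl i) (L.cl i) = 0) (hno : ∀ j, L.M1 j → L.B (L.cl i) (L.cl j) ≠ 0)

include h0 in
theorem nef_cl : L.Nef (L.cl i) := fun j => by
  by_cases hij : i = j
  · subst hij; exact h0.ge
  · exact L.ne i j hij

include h0 in
theorem cl_δ : L.B (L.cl i) L.δ = 2 := by
  obtain ⟨p, hp⟩ := L.adj i
  have := L.pos i
  omega

include h0 hno in
/-- a curve orthogonal to `cl i` has the class `cl i` -/
theorem cl_eq {j : ι} (hj : L.B (L.cl i) (L.cl j) = 0) : L.cl j = L.cl i := by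
  have h1 : 0 ≤ L.B (L.cl j) (L.cl j) := by
    by_contra hneg
    rw [not_le] at hneg
    exact hno j hneg hj
  have h2 := L.cl_δ h0
  set z : A := (L.B (L.cl j) L.δ) • L.cl i - (L.B (L.cl i) L.δ) • L.cl j with hz
  have h6 : L.B z L.δ = 0 := by
    rw [hz]
    simp only [map_sub, map_zsmul, AddMonoidHom.sub_apply, AddMonoidHom.smul_apply, smul_eq_mul]
    ring
  have h7 : L.B z z = 4 * L.B (L.cl j) (L.cl j) := by
    rw [hz]
    simp only [map_sub, map_zsmul, AddMonoidHom.sub_apply, AddMonoidHom.smul_apply, smul_eq_mul]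
    rw [L.symm (L.cl j) (L.cl i), hj, h0, h2]
    ring
  have h8 : L.B z z ≤ 0 := by
    have := L.hodge z
    rw [h6] at this
    have hd := L.dpos
    nlinarith
  have h9 : L.B (L.cl j) (L.cl j) = 0 := by omega
  have h10 := L.cl_δ h9
  have h11 := L.eq_zero (z := L.cl j - L.cl i) (by
    simp only [map_sub, AddMonoidHom.sub_apply]; omega) (by
    simp only [map_sub, AddMonoidHom.sub_apply]
    rw [L.symm (L.cl j) (L.cl i), hj, h0, h9]
    norm_num)
  exact sub_eq_zero.1 h11

include h0 hno in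
/-- effective classes orthogonal to `cl i` are multiples of it -/
theorem eff_eq {a : A} (ha : a ∈ L.Eff) (h : L.B (L.cl i) a = 0) : ∃ n : ℤ, a = n • L.cl i := by
  induction ha using AddSubmonoid.closure_induction with
  | mem x hx =>
    obtain ⟨j, rfl⟩ := hx
    exact ⟨1, by rw [one_smul]; exact L.cl_eq h0 hno h⟩
  | zero => exact ⟨0, (zero_smul _ _).symm⟩
  | add x y hx hy ihx ihy =>
    have h1 := L.nef_eff (L.nef_cl h0) hx
    have h2 := L.nef_eff (L.nef_cl h0) hy
    rw [map_add] at h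
    obtain ⟨n, hn⟩ := ihx (by omega)
    obtain ⟨m, hm⟩ := ihy (by omega)
    exact ⟨n + m, by rw [add_smul, ← hn, ← hm]⟩

include h0 hno in
/-- classes orthogonal to `cl i` are multiples of it -/
theorem orth_eq {z : A} (h : L.B (L.cl i) z = 0) : ∃ n : ℤ, z = n • L.cl i := by
  have h2 := L.cl_δ h0
  have hd := L.dpos
  set m : ℤ := |L.B z z| + |L.B z L.δ| + 1 with hm
  have h3 := neg_abs_le (L.B z z)
  have h4 := neg_abs_le (L.B z L.δ)
  have h5 := abs_nonneg (L.B z z)
  have h6 := abs_nonneg (L.B z L.δ)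
  have h7 : L.B (z + m • L.cl i) (z + m • L.cl i) = L.B z z := by
    simp only [map_add, map_zsmul, AddMonoidHom.add_apply, AddMonoidHom.smul_apply, smul_eq_mul]
    rw [L.symm z (L.cl i), h, h0]; ring
  have h8 : L.B (z + m • L.cl i) L.δ = L.B z L.δ + 2 * m := by
    simp only [map_add, map_zsmul, AddMonoidHom.add_apply, AddMonoidHom.smul_apply, smul_eq_mul]
    rw [h2]; ring
  obtain ⟨n, hn⟩ := L.eff_eq h0 hno (a := z + m • L.cl i) (L.rr _ (by rw [h7, h8]; omega) (by rw [h8]; omega)) (by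
    simp only [map_add, map_zsmul, smul_eq_mul]
    rw [h, h0]; ring)
  exact ⟨n - m, by rw [sub_smul, ← hn, add_sub_cancel_right]⟩

include h0 hno in
/-- effective decompositions of `cl i` are trivial -/
theorem eq_zero_of_add {j : ι} {b : A} (hb : b ∈ L.Eff) (h : L.cl i = L.cl j + b) : b = 0 := by
  have h1 : L.B (L.cl i) (L.cl j) + L.B (L.cl i) b = 0 := by
    rw [← map_add, ← h, h0]
  have h2 := L.nef_eff (L.nef_cl h0) hb
  have h3 := L.nef_cl h0 j
  have h4 := L.cl_eq h0 hno (j := j) (by omega)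
  rw [h4] at h
  exact (left_eq_add.1 h)

include h0 hno in
/-- a class of degree one on `cl i` forces `8 ∣ δ²` -/
theorem false_of_section (hd7 : L.B L.δ L.δ ≤ 7) {s : A} (hs : L.B (L.cl i) s = 1) : False := by
  have h2 := L.cl_δ h0
  have hd := L.dpos
  obtain ⟨b, hb⟩ := L.orth_eq h0 hno (z := L.δ - 2 • s) (by
    rw [map_sub, map_nsmul, hs, h2]; norm_num)
  have hb' : L.δ = 2 • s + b • L.cl i := by rw [← hb]; abel
  have h3 : L.B s L.δ = 2 * L.B s s + b := by
    conv_lhs => rw [hb']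
    simp only [map_add, map_zsmul, map_nsmul, smul_eq_mul, nsmul_eq_mul]
    rw [L.symm s (L.cl i), hs]; push_cast; ring
  have h4 : L.B L.δ L.δ = 4 * L.B s s + 4 * b := by
    have h5 : L.B L.δ L.δ = 2 * L.B s L.δ + b * L.B (L.cl i) L.δ := by
      conv_lhs => rw [show L.B L.δ L.δ = L.B (2 • s + b • L.cl i) L.δ by rw [← hb']]
      simp only [map_add, map_zsmul, map_nsmul, AddMonoidHom.add_apply, AddMonoidHom.smul_apply, smul_eq_mul,
        nsmul_eq_mul]
      push_cast; ring
    rw [h5, h3, h2]; ring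
  obtain ⟨e, he⟩ := L.even s
  rw [h3] at he
  omega

end fib

end Lat

end K102.NumLat
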